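import Cfsg.Agent.H863.U33.Dat

/-!
# S5525, part F, box L1: the normal form of the elements of `P = 3^(1+8)` (helper649)

`stNF : StNF`, `stAct : StAct`.
-/

set_option autoImplicit false

namespace Cfsg.Agent.H649.U33

open Cfsg.Agent.H863.U33

universe u

section pow

variable {G : Type u} [Group G]

/-- powers with exponents in `ZMod 3` -/
def pw (g : G) (a : ZMod 3) : G := g ^ a.val

theorem pw_zero (g : G) : pw g 0 = 1 := by
  show g ^ (0 : ZMod 3).val = 1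
  rw [ZMod.val_zero, pow_zero]

theorem pw_one (g : G) : pw g 1 = g := by
  show g ^ (1 : ZMod 3).val = g
  rw [ZMod.val_one, pow_one]

theorem pow_eq_pw {g : G} (hg : g ^ 3 = 1) (k : ℕ) : g ^ k = pw g (k : ZMod 3) := by
  show g ^ k = g ^ ((k : ZMod 3)).val
  rw [ZMod.val_natCast]
  exact pow_eq_pow_mod k hg

theorem pw_add {g : G} (hg : g ^ 3 = 1) (a b : ZMod 3) : pw g (a + b) = pw g a * pw g b := by
  show g ^ (a + b).val = g ^ a.val * g ^ b.val
  rw [← pow_add, ZMod.val_add, pow_eq_pow_mod (a.val + b.val) hg]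

theorem pw_nsmul {g : G} (hg : g ^ 3 = 1) (a : ZMod 3) (k : ℕ) : pw g a ^ k = pw g ((k : ZMod 3) * a) := by
  show (g ^ a.val) ^ k = _
  rw [← pow_mul, pow_eq_pw hg, Nat.cast_mul, ZMod.natCast_val, ZMod.cast_id, mul_comm]

theorem pw_eq_one {g : G} (hg : g ^ 3 = 1) (h1 : g ≠ 1) {a : ZMod 3} (h : pw g a = 1) : a = 0 := by
  have h3 : orderOf g = 3 := orderOf_eq_prime hg h1
  have h2 : g ^ a.val = 1 := h
  have h4 := orderOf_dvd_of_pow_eq_one h2
  rw [h3] at h4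
  have h5 := ZMod.val_lt a
  have h6 : a.val = 0 := Nat.eq_zero_of_dvd_of_lt h4 h5
  rwa [ZMod.val_eq_zero] at h6

/-- commutation with a central element -/
theorem comm_pow {x z y : G} (hxy : Commute x y) {c : ℕ} (h : x * z = y ^ c * z * x) (k : ℕ) :
    x ^ k * z = y ^ (c * k) * z * x ^ k := by
  induction k with
  | zero => simp
  | succ k ih =>
    have e1 : x * y ^ (c * k) = y ^ (c * k) * x := (hxy.pow_right _).eq
    calc x ^ (k + 1) * z = x * (x ^ k * z) := by rw [pow_succ', mul_assoc]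
      _ = x * (y ^ (c * k) * z * x ^ k) := by rw [ih]
      _ = (x * y ^ (c * k)) * z * x ^ k := by simp only [mul_assoc]
      _ = y ^ (c * k) * (x * z) * x ^ k := by rw [e1]; simp only [mul_assoc]
      _ = y ^ (c * k) * (y ^ c * z * x) * x ^ k := by rw [h]
      _ = y ^ (c * k + c) * z * (x * x ^ k) := by rw [pow_add]; simp only [mul_assoc]
      _ = y ^ (c * (k + 1)) * z * x ^ (k + 1) := by rw [← pow_succ', Nat.mul_succ]

theorem comm_pw {x z y : G} (hy : y ^ 3 = 1) (hxy : Commute x y) (hzy : Commute z y) {c : ZMod 3}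
    (h : x * z = y ^ c.val * z * x) (a b : ZMod 3) : pw x a * pw z b = pw y (c * a * b) * pw z b * pw x a := by
  have h1 : x ^ a.val * z = y ^ (c.val * a.val) * z * x ^ a.val := comm_pow hxy h a.val
  have h2 : z * x ^ a.val = (y⁻¹) ^ (c.val * a.val) * x ^ a.val * z := by
    rw [mul_assoc, h1, inv_pow, ← mul_assoc, ← mul_assoc, inv_mul_cancel, one_mul]
  have h3 := comm_pow (x := z) (z := x ^ a.val) (y := y⁻¹) hzy.inv_right h2 b.val
  show x ^ a.val * z ^ b.val = _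
  have h4 : y ^ (c.val * a.val * b.val) * (z ^ b.val * x ^ a.val) = x ^ a.val * z ^ b.val := by
    rw [h3, inv_pow, ← mul_assoc, ← mul_assoc, mul_inv_cancel, one_mul]
  rw [← h4, pow_eq_pw hy, Nat.cast_mul, Nat.cast_mul, ZMod.natCast_val, ZMod.cast_id, ZMod.natCast_val, ZMod.cast_id,
    ZMod.natCast_val, ZMod.cast_id, ← mul_assoc]
  rfl

theorem mm {A B A' B' : G} (h : Commute B A') : A * B * (A' * B') = A * A' * (B * B') := by
  rw [mul_assoc, ← mul_assoc B, h.eq]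
  simp only [mul_assoc]

end pow

variable {G : Type u} [Group G] {y : G} {e : Fin 8 → G}

/-- the part of the relations used here -/
structure NB (y : G) (e : Fin 8 → G) : Prop where
  y3 : y ^ 3 = 1
  y1 : y ≠ 1
  e3 : ∀ j, e j ^ 3 = 1
  ey : ∀ j, e j * y = y * e j
  ee : ∀ i j, e i * e j = y ^ (fm i j).val * e j * e i

/-- the part of the pair `i`, `j` -/
def pr2 (e : Fin 8 → G) (i j : Fin 8) (v : Fin 8 → ZMod 3) : G := pw (e i) (v i) * pw (e j) (v j)

theorem nf_eq (v : Fin 8 → ZMod 3) (b : ZMod 3) :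
    nf y e v b = pr2 e 0 1 v * pr2 e 2 3 v * pr2 e 4 5 v * pr2 e 6 7 v * pw y b := by
  simp only [nf, pr2, pw, mul_assoc]

namespace NB

variable (h : NB y e)
include h

theorem cy (i : Fin 8) : Commute (e i) y := h.ey i

theorem cyp (i : Fin 8) (a b : ZMod 3) : Commute (pw (e i) a) (pw y b) := ((h.cy i).pow_pow _ _)

theorem ecomm (i j : Fin 8) (a b : ZMod 3) :
    pw (e i) a * pw (e j) b = pw y (fm i j * a * b) * pw (e j) b * pw (e i) a :=
  comm_pw h.y3 (h.cy i) (h.cy j) (h.ee i j) a b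

theorem ecomm0 {i j : Fin 8} (hij : fm i j = 0) (a b : ZMod 3) : Commute (pw (e i) a) (pw (e j) b) := by
  have h1 := h.ecomm i j a b
  rw [hij, zero_mul, zero_mul, pw_zero, one_mul] at h1
  exact h1

theorem pr2_y (i j : Fin 8) (v : Fin 8 → ZMod 3) (b : ZMod 3) : Commute (pr2 e i j v) (pw y b) :=
  (h.cyp i _ _).mul_left (h.cyp j _ _)

theorem pr2_comm {i j i' j' : Fin 8} (h1 : fm i i' = 0) (h2 : fm i j' = 0) (h3 : fm j i' = 0) (h4 : fm j j' = 0)
    (v v' : Fin 8 → ZMod 3) : Commute (pr2 e i j v) (pr2 e i' j' v') :=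
  ((h.ecomm0 h1 _ _).mul_right (h.ecomm0 h2 _ _)).mul_left ((h.ecomm0 h3 _ _).mul_right (h.ecomm0 h4 _ _))

theorem pr2_mul (i j : Fin 8) (v v' : Fin 8 → ZMod 3) :
    pr2 e i j v * pr2 e i j v' = pr2 e i j (v + v') * pw y (fm j i * v j * v' i) := by
  have h1 := h.ecomm j i (v j) (v' i)
  have h2 : Commute (pw (e i) (v i)) (pw y (fm j i * v j * v' i)) := h.cyp i _ _
  have h3 : Commute (pr2 e i j (v + v')) (pw y (fm j i * v j * v' i)) := h.pr2_y i j _ _
  calc pr2 e i j v * pr2 e i j v' = pw (e i) (v i) * (pw (e j) (v j) * pw (e i) (v' i)) * pw (e j) (v' j) := by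
        simp only [pr2, mul_assoc]
    _ = pw (e i) (v i) * (pw y (fm j i * v j * v' i) * pw (e i) (v' i) * pw (e j) (v j)) * pw (e j) (v' j) := by
        rw [h1]
    _ = (pw (e i) (v i) * pw y (fm j i * v j * v' i)) * pw (e i) (v' i) * (pw (e j) (v j) * pw (e j) (v' j)) := by
        simp only [mul_assoc]
    _ = pw y (fm j i * v j * v' i) * ((pw (e i) (v i) * pw (e i) (v' i)) * (pw (e j) (v j) * pw (e j) (v' j))) := by
        rw [h2.eq]; simp only [mul_assoc]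
    _ = pw y (fm j i * v j * v' i) * pr2 e i j (v + v') := by
        rw [← pw_add (h.e3 i), ← pw_add (h.e3 j)]; rfl
    _ = _ := h3.eq.symm

theorem mmy (A : G) (i j : Fin 8) (v : Fin 8 → ZMod 3) (a b : ZMod 3) :
    A * pw y a * (pr2 e i j v * pw y b) = A * pr2 e i j v * pw y (a + b) := by
  rw [mm (h.pr2_y i j v a).symm, ← pw_add h.y3]

/-- the multiplication of normal forms -/
theorem nf_mul (v v' : Fin 8 → ZMod 3) : ∃ c : ZMod 3, ∀ z z' : ZMod 3,
    nf y e v z * nf y e v' z' = nf y e (v + v') (z + z' + c) := by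
  refine ⟨fm 1 0 * v 1 * v' 0 + fm 3 2 * v 3 * v' 2 + fm 5 4 * v 5 * v' 4 + fm 7 6 * v 7 * v' 6, fun z z' => ?_⟩
  rw [nf_eq, nf_eq, nf_eq]
  have k2 : ∀ w w' : Fin 8 → ZMod 3, Commute (pr2 e 2 3 w) (pr2 e 0 1 w') := fun w w' =>
    h.pr2_comm (by decide) (by decide) (by decide) (by decide) _ _
  have k4 : ∀ w w' : Fin 8 → ZMod 3, Commute (pr2 e 4 5 w) (pr2 e 0 1 w' * pr2 e 2 3 w') := fun w w' =>
    (h.pr2_comm (by decide) (by decide) (by decide) (by decide) _ _).mul_right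
      (h.pr2_comm (by decide) (by decide) (by decide) (by decide) _ _)
  have k6 : ∀ w w' : Fin 8 → ZMod 3, Commute (pr2 e 6 7 w) (pr2 e 0 1 w' * pr2 e 2 3 w' * pr2 e 4 5 w') := fun w w' =>
    ((h.pr2_comm (by decide) (by decide) (by decide) (by decide) _ _).mul_right
      (h.pr2_comm (by decide) (by decide) (by decide) (by decide) _ _)).mul_right
      (h.pr2_comm (by decide) (by decide) (by decide) (by decide) _ _)
  have k8 : ∀ w' : Fin 8 → ZMod 3, Commute (pw y z) (pr2 e 0 1 w' * pr2 e 2 3 w' * pr2 e 4 5 w' * pr2 e 6 7 w') :=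
    fun w' => ((((h.pr2_y _ _ _ _).mul_left (h.pr2_y _ _ _ _)).mul_left (h.pr2_y _ _ _ _)).mul_left
      (h.pr2_y _ _ _ _)).symm
  rw [mm (k8 v'), mm (k6 v v'), mm (k4 v v'), mm (k2 v v'), h.pr2_mul, h.pr2_mul, h.pr2_mul, h.pr2_mul, h.mmy, h.mmy,
    h.mmy, mul_assoc _ (pw y _) (pw y z * pw y z'), ← pw_add h.y3, ← pw_add h.y3]
  congr 2
  ring

omit h in
theorem nf_zero (b : ZMod 3) : nf y e 0 b = pw y b := by
  rw [nf_eq]
  simp only [pr2, Pi.zero_apply, pw_zero, mul_one, one_mul]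

theorem nf_inv (v : Fin 8 → ZMod 3) (b : ZMod 3) : ∃ c, (nf y e v b)⁻¹ = nf y e (-v) c := by
  obtain ⟨c, hc⟩ := h.nf_mul v (-v)
  refine ⟨-b - c, ?_⟩
  rw [inv_eq_iff_mul_eq_one, hc, add_neg_cancel, nf_zero]
  have : b + (-b - c) + c = 0 := by ring
  rw [this, pw_zero]

/-- `P` as the set of normal forms -/
theorem mem_PP {p : G} : p ∈ PP y e ↔ ∃ v b, p = nf y e v b := by
  constructor
  · intro hp
    induction hp using Subgroup.closure_induction with
    | mem x hx =>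
      rcases hx with rfl | ⟨j, rfl⟩
      · exact ⟨0, 1, by rw [nf_zero, pw_one]⟩
      · refine ⟨Pi.single j 1, 0, ?_⟩
        rw [nf_eq, pw_zero, mul_one]
        simp only [pr2]
        fin_cases j <;> simp [pw_zero, pw_one]
    | one => exact ⟨0, 0, by rw [nf_zero, pw_zero]⟩
    | mul x x' _ _ hx hx' =>
      obtain ⟨v, b, rfl⟩ := hx
      obtain ⟨v', b', rfl⟩ := hx'
      obtain ⟨c, hc⟩ := h.nf_mul v v'
      exact ⟨_, _, hc b b'⟩
    | inv x _ hx =>
      obtain ⟨v, b, rfl⟩ := hx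
      obtain ⟨c, hc⟩ := h.nf_inv v b
      exact ⟨_, _, hc⟩
  · rintro ⟨v, b, rfl⟩
    have he : ∀ j, e j ∈ PP y e := fun j => Subgroup.subset_closure (Or.inr ⟨j, rfl⟩)
    have hy : y ∈ PP y e := Subgroup.subset_closure (Or.inl rfl)
    unfold nf
    exact mul_mem (mul_mem (mul_mem (mul_mem (mul_mem (mul_mem (mul_mem (mul_mem (pow_mem (he _) _) (pow_mem (he _) _))
      (pow_mem (he _) _)) (pow_mem (he _) _)) (pow_mem (he _) _)) (pow_mem (he _) _)) (pow_mem (he _) _))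
      (pow_mem (he _) _)) (pow_mem hy _)

omit h in
/-- the commutator with `e i` -/
def Q (y : G) (e : Fin 8 → G) (i : Fin 8) (A : G) (s : ZMod 3) : Prop :=
  e i * A = pw y s * A * e i ∧ ∀ c, Commute A (pw y c)

theorem Q_mul {i : Fin 8} {A B : G} {s t : ZMod 3} (hA : Q y e i A s) (hB : Q y e i B t) :
    Q y e i (A * B) (s + t) := by
  refine ⟨?_, fun c => (hA.2 c).mul_left (hB.2 c)⟩
  have h1 := (hA.2 t).eq
  calc e i * (A * B) = (e i * A) * B := (mul_assoc _ _ _).symm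
    _ = pw y s * A * (e i * B) := by rw [hA.1]; simp only [mul_assoc]
    _ = pw y s * (A * pw y t) * B * e i := by rw [hB.1]; simp only [mul_assoc]
    _ = pw y s * pw y t * (A * B) * e i := by rw [h1]; simp only [mul_assoc]
    _ = _ := by rw [← pw_add h.y3]

theorem Q_e (i j : Fin 8) (a : ZMod 3) : Q y e i (pw (e j) a) (fm i j * a) := by
  refine ⟨?_, fun c => h.cyp j _ _⟩
  have := h.ecomm i j 1 a
  rwa [pw_one, mul_one] at this

theorem Q_y (i : Fin 8) (b : ZMod 3) : Q y e i (pw y b) 0 := by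
  refine ⟨?_, fun c => (Commute.refl y).pow_pow _ _⟩
  rw [pw_zero, one_mul]
  exact ((h.cy i).pow_right _).eq

theorem Q_nf (i : Fin 8) (v : Fin 8 → ZMod 3) (b : ZMod 3) : Q y e i (nf y e v b)
    (fm i 0 * v 0 + fm i 1 * v 1 + fm i 2 * v 2 + fm i 3 * v 3 + fm i 4 * v 4 + fm i 5 * v 5 + fm i 6 * v 6 +
      fm i 7 * v 7 + 0) :=
  h.Q_mul (h.Q_mul (h.Q_mul (h.Q_mul (h.Q_mul (h.Q_mul (h.Q_mul (h.Q_mul (h.Q_e i 0 _) (h.Q_e i 1 _)) (h.Q_e i 2 _))
    (h.Q_e i 3 _)) (h.Q_e i 4 _)) (h.Q_e i 5 _)) (h.Q_e i 6 _)) (h.Q_e i 7 _)) (h.Q_y i _)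

/-- a relation -/
theorem eq_one {v : Fin 8 → ZMod 3} {b : ZMod 3} (hv : nf y e v b = 1) : v = 0 ∧ b = 0 := by
  have key : ∀ i : Fin 8, fm i 0 * v 0 + fm i 1 * v 1 + fm i 2 * v 2 + fm i 3 * v 3 + fm i 4 * v 4 + fm i 5 * v 5 +
      fm i 6 * v 6 + fm i 7 * v 7 + 0 = 0 := by
    intro i
    have h1 := (h.Q_nf i v b).1
    rw [hv, mul_one, mul_one, right_eq_mul] at h1
    exact pw_eq_one h.y3 h.y1 h1
  have h0 : v = 0 := by
    have k0 := key 0
    have k1 := key 1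
    have k2 := key 2
    have k3 := key 3
    have k4 := key 4
    have k5 := key 5
    have k6 := key 6
    have k7 := key 7
    have h2 : (2 : ZMod 3) ≠ 0 := by decide
    simp [fm, h2] at k0 k1 k2 k3 k4 k5 k6 k7
    funext j
    fin_cases j
    · exact k1
    · exact k0
    · exact k3
    · exact k2
    · exact k5
    · exact k4
    · exact k7
    · exact k6
  refine ⟨h0, ?_⟩
  rw [h0, nf_zero] at hv
  exact pw_eq_one h.y3 h.y1 hv

theorem inj {v v' : Fin 8 → ZMod 3} {b b' : ZMod 3} (hv : nf y e v b = nf y e v' b') : v = v' ∧ b = b' := by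
  obtain ⟨c, hc⟩ := h.nf_inv v' b'
  obtain ⟨d, hd⟩ := h.nf_mul v (-v')
  have h1 : nf y e v b * (nf y e v' b')⁻¹ = 1 := by rw [hv, mul_inv_cancel]
  rw [hc, hd] at h1
  have h2 : v = v' := by
    have := (h.eq_one h1).1
    rwa [← sub_eq_add_neg, sub_eq_zero] at this
  refine ⟨h2, ?_⟩
  subst h2
  have h3 : pw y b = pw y b' := by
    rw [nf_eq, nf_eq] at hv
    exact mul_left_cancel hv
  have h4 : pw y (b - b') * pw y b' = pw y b' := by rw [← pw_add h.y3, sub_add_cancel, h3]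
  rw [mul_eq_right] at h4
  exact sub_eq_zero.1 (pw_eq_one h.y3 h.y1 h4)

theorem card : Nat.card (PP y e) = 3 ^ 9 := by
  let f : (Fin 8 → ZMod 3) × ZMod 3 → PP y e := fun x => ⟨nf y e x.1 x.2, h.mem_PP.2 ⟨_, _, rfl⟩⟩
  have hf : Function.Bijective f := by
    constructor
    · intro x x' hx
      have := h.inj (congrArg Subtype.val hx)
      exact Prod.ext this.1 this.2
    · rintro ⟨p, hp⟩
      obtain ⟨v, b, rfl⟩ := h.mem_PP.1 hp
      exact ⟨(v, b), rfl⟩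
  rw [← Nat.card_congr (Equiv.ofBijective f hf), Nat.card_prod, Nat.card_fun, Nat.card_zmod, Nat.card_fin]
  norm_num

/-- `g` has the vector `v` -/
theorem vec_pow {g : G} {v : Fin 8 → ZMod 3} (hg : ∃ b, g = nf y e v b) (k : ℕ) :
    ∃ b, g ^ k = nf y e ((k : ZMod 3) • v) b := by
  induction k with
  | zero => exact ⟨0, by rw [pow_zero, Nat.cast_zero, zero_smul, nf_zero, pw_zero]⟩
  | succ k ih =>
    obtain ⟨b, hb⟩ := ih
    obtain ⟨b', hb'⟩ := hg
    obtain ⟨c, hc⟩ := h.nf_mul ((k : ZMod 3) • v) v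
    refine ⟨b + b' + c, ?_⟩
    rw [pow_succ, hb, hb', hc, Nat.cast_succ, add_smul, one_smul]

theorem vec_pw {g : G} {v : Fin 8 → ZMod 3} (hg : ∃ b, g = nf y e v b) (a : ZMod 3) :
    ∃ b, pw g a = nf y e (a • v) b := by
  obtain ⟨b, hb⟩ := h.vec_pow hg a.val
  rw [ZMod.natCast_val, ZMod.cast_id] at hb
  exact ⟨b, hb⟩

theorem vec_mul {g g' : G} {v v' : Fin 8 → ZMod 3} (hg : ∃ b, g = nf y e v b) (hg' : ∃ b, g' = nf y e v' b) :
    ∃ b, g * g' = nf y e (v + v') b := by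
  obtain ⟨b, rfl⟩ := hg
  obtain ⟨b', rfl⟩ := hg'
  obtain ⟨c, hc⟩ := h.nf_mul v v'
  exact ⟨_, hc b b'⟩

theorem acts {s : G} {M : Fin 8 → Fin 8 → ZMod 3} {C : Fin 8 → ZMod 3} (hM : ∀ j, s⁻¹ * e j * s = nf y e (M j) (C j))
    {ε : ZMod 3} (hy : s⁻¹ * y * s = pw y ε) : Acts y e s M := by
  intro v b
  have hc : ∀ (g g' : G), s⁻¹ * (g * g') * s = (s⁻¹ * g * s) * (s⁻¹ * g' * s) := fun g g' => by group
  have hp : ∀ (g : G) (a : ZMod 3), s⁻¹ * pw g a * s = pw (s⁻¹ * g * s) a := by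
    intro g a
    have := conj_pow (i := a.val) (a := s⁻¹) (b := g)
    rw [inv_inv] at this
    exact this.symm
  have he : ∀ j, ∃ b', s⁻¹ * pw (e j) (v j) * s = nf y e (v j • M j) b' := by
    intro j
    rw [hp]
    exact h.vec_pw ⟨_, hM j⟩ _
  have hyy : ∃ b', s⁻¹ * pw y b * s = nf y e (0 : Fin 8 → ZMod 3) b' := by
    obtain ⟨b', hb'⟩ := h.vec_pw (v := 0) ⟨ε, by rw [hy, nf_zero]⟩ b (g := s⁻¹ * y * s)
    rw [smul_zero] at hb'
    exact ⟨b', by rw [hp, hb']⟩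
  have e1 : nf y e v b = pw (e 0) (v 0) * pw (e 1) (v 1) * pw (e 2) (v 2) * pw (e 3) (v 3) * pw (e 4) (v 4) *
    pw (e 5) (v 5) * pw (e 6) (v 6) * pw (e 7) (v 7) * pw y b := rfl
  rw [e1, hc, hc, hc, hc, hc, hc, hc, hc]
  obtain ⟨b', hb'⟩ := h.vec_mul (h.vec_mul (h.vec_mul (h.vec_mul (h.vec_mul (h.vec_mul (h.vec_mul (h.vec_mul
    (he 0) (he 1)) (he 2)) (he 3)) (he 4)) (he 5)) (he 6)) (he 7)) hyy
  refine ⟨b', ?_⟩
  rw [hb']
  congr 1
  funext j
  rw [Fin.sum_univ_eight, add_zero]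
  rfl

end NB

theorem NB.of_TB {t : G} {w : Fin 6 → G} {k : Fin 2 → G} {n : G} (h : TB y e t w k n) : NB y e :=
  ⟨h.y3, h.y1, h.e3, h.ey, h.ee⟩

/-- **(L1)** normal form -/
theorem nf_of {t : G} {w : Fin 6 → G} {k : Fin 2 → G} {n : G} (h : TB y e t w k n) :
    (∀ p, p ∈ PP y e ↔ ∃ v b, p = nf y e v b) ∧
    (∀ v b v' b', nf y e v b = nf y e v' b' → v = v' ∧ b = b') ∧
    Nat.card (PP y e) = 3 ^ 9 :=
  ⟨fun _ => (NB.of_TB h).mem_PP, fun _ _ _ _ hv => (NB.of_TB h).inj hv, (NB.of_TB h).card⟩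

theorem conj_of_comm {s : G} (hs : s * y = y * s) : s⁻¹ * y * s = pw y 1 := by
  rw [pw_one, mul_assoc, ← hs, inv_mul_cancel_left]

/-- **(L1')** the generators act by their matrices -/
theorem act_of {t : G} {w : Fin 6 → G} {k : Fin 2 → G} {n : G} (h : TB y e t w k n) :
    Acts y e t Mt ∧ (∀ a, Acts y e (w a) (Mw a)) ∧ (∀ c, Acts y e (k c) (Mk c)) ∧ Acts y e n Mn := by
  have hn := NB.of_TB h
  refine ⟨hn.acts h.te (conj_of_comm h.ty), fun a => hn.acts (h.we a) (conj_of_comm (h.wy a)),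
    fun c => hn.acts (h.ke c) (conj_of_comm (h.ky c)), hn.acts (ε := 2) h.ne ?_⟩
  rw [h.ny]
  show y⁻¹ = y ^ 2
  rw [inv_eq_iff_mul_eq_one, ← pow_succ', h.y3]

theorem stNF : StNF := fun h => nf_of h

theorem stAct : StAct := fun h => act_of h

end Cfsg.Agent.H649.U33
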