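import Cfsg.Agent.H649.U33.NF

/-!
# S5525, part F, box L3 (part a): the normal form of the elements of `W = 2^(1+6)` (helper649)
-/

set_option autoImplicit false

namespace Cfsg.Agent.H649.U33

open Cfsg.Agent.H863.U33

universe u

section pow

variable {G : Type u} [Group G]

/-- powers with exponents in `ZMod 2` -/
def tw (g : G) (a : ZMod 2) : G := g ^ a.val

theorem tw_zero (g : G) : tw g 0 = 1 := by
  show g ^ (0 : ZMod 2).val = 1
  rw [ZMod.val_zero, pow_zero]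

theorem tw_one (g : G) : tw g 1 = g := by
  show g ^ (1 : ZMod 2).val = g
  rw [ZMod.val_one, pow_one]

theorem zm2 (a : ZMod 2) : a = 0 ∨ a = 1 := by
  fin_cases a
  · exact Or.inl rfl
  · exact Or.inr rfl

theorem tw_add {g : G} (hg : g * g = 1) (a b : ZMod 2) : tw g (a + b) = tw g a * tw g b := by
  rcases zm2 a with rfl | rfl <;> rcases zm2 b with rfl | rfl
  · rw [add_zero, tw_zero, one_mul]
  · rw [zero_add, tw_zero, one_mul]
  · rw [add_zero, tw_zero, mul_one]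
  · rw [tw_one, hg]
    exact tw_zero g

theorem tw_comm {x z t : G} {c : ZMod 2} (h : x * z = tw t c * z * x) (a b : ZMod 2) :
    tw x a * tw z b = tw t (c * a * b) * tw z b * tw x a := by
  rcases zm2 a with rfl | rfl <;> rcases zm2 b with rfl | rfl
  · simp [tw_zero]
  · simp [tw_zero]
  · simp [tw_zero]
  · rw [tw_one, tw_one, mul_one, mul_one, h]

theorem tw_sq {x t : G} {c : ZMod 2} (h : x * x = tw t c) (a b : ZMod 2) :
    tw x a * tw x b = tw t (c * a * b) * tw x (a + b) := by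
  rcases zm2 a with rfl | rfl <;> rcases zm2 b with rfl | rfl
  · simp [tw_zero]
  · simp [tw_zero]
  · simp [tw_zero]
  · rw [tw_one, mul_one, mul_one, h]
    have : (1 : ZMod 2) + 1 = 0 := rfl
    rw [this, tw_zero, mul_one]

theorem step {t A A' A'' B B' B'' : G} (ht : t * t = 1) {c c' s : ZMod 2} (hA : A * A' = tw t c * A'')
    (hB : B * B' = tw t c' * B'') (hBA : B * A' = tw t s * A' * B) (cA : Commute A (tw t s))
    (cA' : Commute A'' (tw t c')) : A * B * (A' * B') = tw t (s + c + c') * (A'' * B'') := by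
  calc A * B * (A' * B') = A * (B * A') * B' := by simp only [mul_assoc]
    _ = (A * tw t s) * A' * (B * B') := by rw [hBA]; simp only [mul_assoc]
    _ = tw t s * (A * A') * (B * B') := by rw [cA.eq]; simp only [mul_assoc]
    _ = tw t s * tw t c * (A'' * tw t c') * B'' := by rw [hA, hB]; simp only [mul_assoc]
    _ = tw t s * tw t c * tw t c' * (A'' * B'') := by rw [cA'.eq]; simp only [mul_assoc]
    _ = _ := by rw [← tw_add ht, ← tw_add ht]

end pow

variable {G : Type u} [Group G] {t : G} {w : Fin 6 → G}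

/-- the relations used here -/
structure WB (t : G) (w : Fin 6 → G) : Prop where
  t2 : t * t = 1
  t1 : t ≠ 1
  w2 : ∀ a, w a * w a = t ^ (sqw a).val
  wt : ∀ a, w a * t = t * w a
  ww : ∀ a b, w a * w b = t ^ (bc a b).val * w b * w a

namespace WB

variable (h : WB t w)
include h

theorem cwt (i : Fin 6) (a b : ZMod 2) : Commute (tw (w i) a) (tw t b) :=
  (show Commute (w i) t from h.wt i).pow_pow _ _

omit h in
theorem ctt (a b : ZMod 2) : Commute (tw t a) (tw t b) := (Commute.refl t).pow_pow _ _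

theorem wcomm (i j : Fin 6) (a b : ZMod 2) :
    tw (w i) a * tw (w j) b = tw t (bc i j * a * b) * tw (w j) b * tw (w i) a :=
  tw_comm (h.ww i j) a b

theorem wsq (i : Fin 6) (a b : ZMod 2) : tw (w i) a * tw (w i) b = tw t (sqw i * a * b) * tw (w i) (a + b) :=
  tw_sq (h.w2 i) a b

omit h in
/-- the commutator with `g` -/
def R (t g A : G) (s : ZMod 2) : Prop := g * A = tw t s * A * g ∧ ∀ c, Commute A (tw t c)

theorem R_mul {g A B : G} {s s' : ZMod 2} (hA : R t g A s) (hB : R t g B s') : R t g (A * B) (s + s') := by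
  refine ⟨?_, fun c => (hA.2 c).mul_left (hB.2 c)⟩
  have h1 := (hA.2 s').eq
  calc g * (A * B) = (g * A) * B := (mul_assoc _ _ _).symm
    _ = tw t s * A * (g * B) := by rw [hA.1]; simp only [mul_assoc]
    _ = tw t s * (A * tw t s') * B * g := by rw [hB.1]; simp only [mul_assoc]
    _ = tw t s * tw t s' * (A * B) * g := by rw [h1]; simp only [mul_assoc]
    _ = _ := by rw [← tw_add h.t2]

theorem R_w (i j : Fin 6) (a b : ZMod 2) : R t (tw (w i) a) (tw (w j) b) (bc i j * a * b) :=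
  ⟨h.wcomm i j a b, fun _ => h.cwt j _ _⟩

theorem R_t (i : Fin 6) (a b : ZMod 2) : R t (tw (w i) a) (tw t b) 0 := by
  refine ⟨?_, fun c => ctt _ _⟩
  rw [tw_zero, one_mul]
  exact (h.cwt i a b).eq

omit h in
/-- the products -/
theorem wnf_eq (m : Fin 6 → ZMod 2) (c : ZMod 2) : wnf t w m c = tw (w 0) (m 0) * tw (w 1) (m 1) * tw (w 2) (m 2) *
    tw (w 3) (m 3) * tw (w 4) (m 4) * tw (w 5) (m 5) * tw t c := rfl

/-- the multiplication of normal forms -/
theorem wnf_mul (m m' : Fin 6 → ZMod 2) : ∃ c : ZMod 2, ∀ z z' : ZMod 2,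
    wnf t w m z * wnf t w m' z' = wnf t w (m + m') (z + z' + c) := by
  have k0 := h.wsq 0 (m 0) (m' 0)
  have c1 : ∀ (n : Fin 6 → ZMod 2) c, Commute (tw (w 0) (n 0)) (tw t c) := fun _ _ => h.cwt 0 _ _
  have c2 : ∀ (n : Fin 6 → ZMod 2) c, Commute (tw (w 0) (n 0) * tw (w 1) (n 1)) (tw t c) := fun n c =>
    (c1 n c).mul_left (h.cwt 1 _ _)
  have c3 : ∀ (n : Fin 6 → ZMod 2) c, Commute (tw (w 0) (n 0) * tw (w 1) (n 1) * tw (w 2) (n 2)) (tw t c) := fun n c =>
    (c2 n c).mul_left (h.cwt 2 _ _)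
  have c4 : ∀ (n : Fin 6 → ZMod 2) c, Commute (tw (w 0) (n 0) * tw (w 1) (n 1) * tw (w 2) (n 2) * tw (w 3) (n 3))
      (tw t c) := fun n c => (c3 n c).mul_left (h.cwt 3 _ _)
  have c5 : ∀ (n : Fin 6 → ZMod 2) c, Commute (tw (w 0) (n 0) * tw (w 1) (n 1) * tw (w 2) (n 2) * tw (w 3) (n 3) *
      tw (w 4) (n 4)) (tw t c) := fun n c => (c4 n c).mul_left (h.cwt 4 _ _)
  have c6 : ∀ (n : Fin 6 → ZMod 2) c, Commute (tw (w 0) (n 0) * tw (w 1) (n 1) * tw (w 2) (n 2) * tw (w 3) (n 3) *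
      tw (w 4) (n 4) * tw (w 5) (n 5)) (tw t c) := fun n c => (c5 n c).mul_left (h.cwt 5 _ _)
  have r1 := h.R_w 1 0 (m 1) (m' 0)
  have r2 := h.R_mul (h.R_w 2 0 (m 2) (m' 0)) (h.R_w 2 1 (m 2) (m' 1))
  have r3 := h.R_mul (h.R_mul (h.R_w 3 0 (m 3) (m' 0)) (h.R_w 3 1 (m 3) (m' 1))) (h.R_w 3 2 (m 3) (m' 2))
  have r4 := h.R_mul (h.R_mul (h.R_mul (h.R_w 4 0 (m 4) (m' 0)) (h.R_w 4 1 (m 4) (m' 1))) (h.R_w 4 2 (m 4) (m' 2)))
    (h.R_w 4 3 (m 4) (m' 3))
  have r5 := h.R_mul (h.R_mul (h.R_mul (h.R_mul (h.R_w 5 0 (m 5) (m' 0)) (h.R_w 5 1 (m 5) (m' 1)))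
    (h.R_w 5 2 (m 5) (m' 2))) (h.R_w 5 3 (m 5) (m' 3))) (h.R_w 5 4 (m 5) (m' 4))
  have k1 := step h.t2 k0 (h.wsq 1 (m 1) (m' 1)) r1.1 (c1 m _) (c1 (m + m') _)
  have k2 := step h.t2 k1 (h.wsq 2 (m 2) (m' 2)) r2.1 (c2 m _) (c2 (m + m') _)
  have k3 := step h.t2 k2 (h.wsq 3 (m 3) (m' 3)) r3.1 (c3 m _) (c3 (m + m') _)
  have k4 := step h.t2 k3 (h.wsq 4 (m 4) (m' 4)) r4.1 (c4 m _) (c4 (m + m') _)
  have k5 := step h.t2 k4 (h.wsq 5 (m 5) (m' 5)) r5.1 (c5 m _) (c5 (m + m') _)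
  obtain ⟨C, hC⟩ : ∃ C, tw (w 0) (m 0) * tw (w 1) (m 1) * tw (w 2) (m 2) * tw (w 3) (m 3) * tw (w 4) (m 4) *
      tw (w 5) (m 5) * (tw (w 0) (m' 0) * tw (w 1) (m' 1) * tw (w 2) (m' 2) * tw (w 3) (m' 3) * tw (w 4) (m' 4) *
      tw (w 5) (m' 5)) = tw t C * (tw (w 0) ((m + m') 0) * tw (w 1) ((m + m') 1) * tw (w 2) ((m + m') 2) *
      tw (w 3) ((m + m') 3) * tw (w 4) ((m + m') 4) * tw (w 5) ((m + m') 5)) := ⟨_, k5⟩
  refine ⟨C, fun z z' => ?_⟩
  rw [wnf_eq, wnf_eq, wnf_eq, mm (c6 m' z).symm, hC, ((c6 (m + m') C).symm).eq, ← tw_add h.t2, mul_assoc,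
    ← tw_add h.t2, add_comm C (z + z')]

omit h in
theorem wnf_zero (c : ZMod 2) : wnf t w 0 c = tw t c := by
  rw [wnf_eq]
  simp only [Pi.zero_apply, tw_zero, one_mul]

theorem wnf_inv (m : Fin 6 → ZMod 2) (c : ZMod 2) : ∃ d, (wnf t w m c)⁻¹ = wnf t w (-m) d := by
  obtain ⟨d, hd⟩ := h.wnf_mul m (-m)
  refine ⟨-c - d, ?_⟩
  rw [inv_eq_iff_mul_eq_one, hd, add_neg_cancel, wnf_zero]
  have : c + (-c - d) + d = 0 := by ring
  rw [this, tw_zero]

/-- `W` as the set of normal forms -/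
theorem mem_W {p : G} : p ∈ Subgroup.closure ({t} ∪ Set.range w) ↔ ∃ m c, p = wnf t w m c := by
  constructor
  · intro hp
    induction hp using Subgroup.closure_induction with
    | mem x hx =>
      rcases hx with rfl | ⟨j, rfl⟩
      · exact ⟨0, 1, by rw [wnf_zero, tw_one]⟩
      · refine ⟨Pi.single j 1, 0, ?_⟩
        rw [wnf_eq, tw_zero, mul_one]
        fin_cases j <;> simp [tw_zero, tw_one]
    | one => exact ⟨0, 0, by rw [wnf_zero, tw_zero]⟩
    | mul x x' _ _ hx hx' =>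
      obtain ⟨v, b, rfl⟩ := hx
      obtain ⟨v', b', rfl⟩ := hx'
      obtain ⟨c, hc⟩ := h.wnf_mul v v'
      exact ⟨_, _, hc b b'⟩
    | inv x _ hx =>
      obtain ⟨v, b, rfl⟩ := hx
      obtain ⟨c, hc⟩ := h.wnf_inv v b
      exact ⟨_, _, hc⟩
  · rintro ⟨v, b, rfl⟩
    have he : ∀ j, w j ∈ Subgroup.closure ({t} ∪ Set.range w) := fun j => Subgroup.subset_closure (Or.inr ⟨j, rfl⟩)
    have hy : t ∈ Subgroup.closure ({t} ∪ Set.range w) := Subgroup.subset_closure (Or.inl rfl)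
    unfold wnf
    exact mul_mem (mul_mem (mul_mem (mul_mem (mul_mem (mul_mem (pow_mem (he _) _) (pow_mem (he _) _))
      (pow_mem (he _) _)) (pow_mem (he _) _)) (pow_mem (he _) _)) (pow_mem (he _) _)) (pow_mem hy _)

theorem tw_eq_one {c : ZMod 2} (hc : tw t c = 1) : c = 0 := by
  rcases zm2 c with rfl | rfl
  · rfl
  · rw [tw_one] at hc
    exact absurd hc h.t1

theorem R_nf (i : Fin 6) (v : Fin 6 → ZMod 2) (b : ZMod 2) : R t (tw (w i) 1) (wnf t w v b)
    (bc i 0 * 1 * v 0 + bc i 1 * 1 * v 1 + bc i 2 * 1 * v 2 + bc i 3 * 1 * v 3 + bc i 4 * 1 * v 4 +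
      bc i 5 * 1 * v 5 + 0) :=
  h.R_mul (h.R_mul (h.R_mul (h.R_mul (h.R_mul (h.R_mul (h.R_w i 0 _ _) (h.R_w i 1 _ _)) (h.R_w i 2 _ _))
    (h.R_w i 3 _ _)) (h.R_w i 4 _ _)) (h.R_w i 5 _ _)) (h.R_t i _ _)

/-- a relation -/
theorem eq_one {v : Fin 6 → ZMod 2} {b : ZMod 2} (hv : wnf t w v b = 1) : v = 0 ∧ b = 0 := by
  have key : ∀ i : Fin 6, bc i 0 * 1 * v 0 + bc i 1 * 1 * v 1 + bc i 2 * 1 * v 2 + bc i 3 * 1 * v 3 +
      bc i 4 * 1 * v 4 + bc i 5 * 1 * v 5 + 0 = 0 := by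
    intro i
    have h1 := (h.R_nf i v b).1
    rw [hv, mul_one, mul_one, right_eq_mul] at h1
    exact h.tw_eq_one h1
  have h0 : v = 0 := by
    have k0 := key 0
    have k1 := key 1
    have k2 := key 2
    have k3 := key 3
    have k4 := key 4
    have k5 := key 5
    simp [bc] at k0 k1 k2 k3 k4 k5
    rw [k5, add_zero] at k2
    rw [k2, add_zero] at k1
    rw [k0, k5, zero_add, add_zero] at k3
    rw [k3, k2, zero_add, zero_add] at k4
    funext j
    fin_cases j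
    · exact k1
    · exact k0
    · exact k3
    · exact k2
    · exact k5
    · exact k4
  refine ⟨h0, ?_⟩
  rw [h0, wnf_zero] at hv
  exact h.tw_eq_one hv

theorem inj {v v' : Fin 6 → ZMod 2} {b b' : ZMod 2} (hv : wnf t w v b = wnf t w v' b') : v = v' ∧ b = b' := by
  obtain ⟨c, hc⟩ := h.wnf_inv v' b'
  obtain ⟨d, hd⟩ := h.wnf_mul v (-v')
  have h1 : wnf t w v b * (wnf t w v' b')⁻¹ = 1 := by rw [hv, mul_inv_cancel]
  rw [hc, hd] at h1
  have h2 : v = v' := by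
    have := (h.eq_one h1).1
    rwa [← sub_eq_add_neg, sub_eq_zero] at this
  refine ⟨h2, ?_⟩
  subst h2
  have h3 : tw t b = tw t b' := by
    rw [wnf_eq, wnf_eq] at hv
    exact mul_left_cancel hv
  have h4 : tw t (b - b') * tw t b' = tw t b' := by rw [← tw_add h.t2, sub_add_cancel, h3]
  rw [mul_eq_right] at h4
  exact sub_eq_zero.1 (h.tw_eq_one h4)

theorem card : Nat.card (Subgroup.closure ({t} ∪ Set.range w)) = 2 ^ 7 := by
  let f : (Fin 6 → ZMod 2) × ZMod 2 → Subgroup.closure ({t} ∪ Set.range w) :=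
    fun x => ⟨wnf t w x.1 x.2, h.mem_W.2 ⟨_, _, rfl⟩⟩
  have hf : Function.Bijective f := by
    constructor
    · intro x x' hx
      have := h.inj (congrArg Subtype.val hx)
      exact Prod.ext this.1 this.2
    · rintro ⟨p, hp⟩
      obtain ⟨v, b, rfl⟩ := h.mem_W.1 hp
      exact ⟨(v, b), rfl⟩
  rw [← Nat.card_congr (Equiv.ofBijective f hf), Nat.card_prod, Nat.card_fun, Nat.card_zmod, Nat.card_fin]
  norm_num

end WB

section prod

/-- the order of a product -/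
theorem card_sup {P W : Subgroup G} [Finite P] [Finite W]
    (hn : ∀ s ∈ W, ∀ p ∈ P, s⁻¹ * p * s ∈ P) (hc : (Nat.card P).Coprime (Nat.card W)) :
    Nat.card (P ⊔ W : Subgroup G) = Nat.card P * Nat.card W := by
  have hn' : ∀ s ∈ W, ∀ p ∈ P, s * p * s⁻¹ ∈ P := by
    intro s hs p hp
    have := hn s⁻¹ (inv_mem hs) p hp
    rwa [inv_inv] at this
  have hbot : P ⊓ W = ⊥ := (Subgroup.disjoint_of_coprime_natCard hc).eq_bot
  have hmem : ∀ x : G, x ∈ P ⊔ W ↔ ∃ p ∈ P, ∃ s ∈ W, p * s = x := by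
    intro x
    let S : Subgroup G :=
      { carrier := {x | ∃ p ∈ P, ∃ s ∈ W, p * s = x}
        one_mem' := ⟨1, one_mem _, 1, one_mem _, one_mul _⟩
        mul_mem' := by
          rintro _ _ ⟨p, hp, s, hs, rfl⟩ ⟨p', hp', s', hs', rfl⟩
          exact ⟨p * (s * p' * s⁻¹), mul_mem hp (hn' s hs p' hp'), s * s', mul_mem hs hs', by group⟩
        inv_mem' := by
          rintro _ ⟨p, hp, s, hs, rfl⟩
          exact ⟨s⁻¹ * p⁻¹ * s, hn s hs _ (inv_mem hp), s⁻¹, inv_mem hs, by group⟩ }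
    constructor
    · intro hx
      have hle : P ⊔ W ≤ S := sup_le (fun p hp => ⟨p, hp, 1, one_mem _, mul_one _⟩)
        (fun s hs => ⟨1, one_mem _, s, hs, one_mul _⟩)
      exact hle hx
    · rintro ⟨p, hp, s, hs, rfl⟩
      exact mul_mem (le_sup_left (a := P) hp) (le_sup_right (a := P) hs)
  let f : P × W → (P ⊔ W : Subgroup G) := fun x => ⟨x.1 * x.2, (hmem _).2 ⟨x.1, x.1.2, x.2, x.2.2, rfl⟩⟩
  have hf : Function.Bijective f := by
    constructor
    · rintro ⟨⟨p, hp⟩, ⟨s, hs⟩⟩ ⟨⟨p', hp'⟩, ⟨s', hs'⟩⟩ he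
      have he' : p * s = p' * s' := congrArg Subtype.val he
      have h1 : p'⁻¹ * p = s' * s⁻¹ := by
        rw [inv_mul_eq_iff_eq_mul, ← mul_assoc, ← he', mul_inv_cancel_right]
      have h2 : p'⁻¹ * p ∈ P ⊓ W := Subgroup.mem_inf.2
        ⟨P.mul_mem (P.inv_mem hp') hp, by rw [h1]; exact W.mul_mem hs' (W.inv_mem hs)⟩
      rw [hbot, Subgroup.mem_bot] at h2
      have h3 : p = p' := by rwa [inv_mul_eq_one, eq_comm] at h2
      rw [h2] at h1
      have h4 : s = s' := by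
        rw [eq_comm, mul_inv_eq_one, eq_comm] at h1
        exact h1
      subst h3 h4
      rfl
    · rintro ⟨x, hx⟩
      obtain ⟨p, hp, s, hs, rfl⟩ := (hmem x).1 hx
      exact ⟨(⟨p, hp⟩, ⟨s, hs⟩), rfl⟩
  rw [← Nat.card_congr (Equiv.ofBijective f hf), Nat.card_prod]

end prod

section StO

variable {y : G} {e : Fin 8 → G} {k : Fin 2 → G} {n : G}

theorem t_ne_one (h : TB y e t w k n) : t ≠ 1 := by
  rintro rfl
  have h0 := h.te 0
  rw [inv_one, one_mul, mul_one] at h0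
  have h1 : e 0 = nf y e (Pi.single 0 1) 0 := by
    rw [nf_eq, pw_zero, mul_one]
    simp [pr2, pw_zero, pw_one]
  have h2 := ((NB.of_TB h).inj (h1.symm.trans h0)).1
  have h3 := congrFun h2 0
  rw [Pi.single_eq_same] at h3
  revert h3
  decide

theorem WB.of_TB (h : TB y e t w k n) : WB t w := ⟨h.t2, t_ne_one h, h.w2, h.wt, h.ww⟩

theorem acts_mem (hn : NB y e) {s : G} {M : Fin 8 → Fin 8 → ZMod 3} (hs : Acts y e s M) {p : G} (hp : p ∈ PP y e) :
    s⁻¹ * p * s ∈ PP y e := by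
  obtain ⟨v, b, rfl⟩ := hn.mem_PP.1 hp
  obtain ⟨b', hb'⟩ := hs v b
  rw [hb']
  exact hn.mem_PP.2 ⟨_, _, rfl⟩

theorem W_norm (h : TB y e t w k n) : ∀ s ∈ Subgroup.closure ({t} ∪ Set.range w), ∀ p ∈ PP y e,
    s⁻¹ * p * s ∈ PP y e := by
  have hn := NB.of_TB h
  have hact := act_of h
  have h1 : ∀ p ∈ PP y e, t⁻¹ * p * t ∈ PP y e := fun p hp => acts_mem hn hact.1 hp
  have ht : t⁻¹ = t := by rw [inv_eq_iff_mul_eq_one, h.t2]
  have h2 : ∀ p ∈ PP y e, t * p * t⁻¹ ∈ PP y e := by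
    intro p hp
    have := h1 p hp
    rwa [ht] at this ⊢
  have h3 : ∀ a, ∀ p ∈ PP y e, (w a)⁻¹ * p * w a ∈ PP y e := fun a p hp => acts_mem hn (hact.2.1 a) hp
  have h4 : ∀ c : ZMod 2, ∀ p ∈ PP y e, tw t c * p * (tw t c)⁻¹ ∈ PP y e := by
    intro c p hp
    rcases zm2 c with rfl | rfl
    · rwa [tw_zero, one_mul, inv_one, mul_one]
    · rw [tw_one]
      exact h2 p hp
  have h5 : ∀ a, ∀ p ∈ PP y e, w a * p * (w a)⁻¹ ∈ PP y e := by
    intro a p hp
    have h6 := h3 a _ (h4 (sqw a) p hp)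
    have h7 : w a * w a = tw t (sqw a) := h.w2 a
    rw [← h7] at h6
    have e : (w a)⁻¹ * (w a * w a * p * (w a * w a)⁻¹) * w a = w a * p * (w a)⁻¹ := by group
    rwa [e] at h6
  have key : ∀ s ∈ Subgroup.closure ({t} ∪ Set.range w), ∀ p ∈ PP y e,
      s⁻¹ * p * s ∈ PP y e ∧ s * p * s⁻¹ ∈ PP y e := by
    intro s hs
    induction hs using Subgroup.closure_induction with
    | mem x hx =>
      rcases hx with hx | ⟨a, rfl⟩
      · rw [Set.mem_singleton_iff] at hx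
        subst hx
        exact fun p hp => ⟨h1 p hp, h2 p hp⟩
      · exact fun p hp => ⟨h3 a p hp, h5 a p hp⟩
    | one =>
      intro p hp
      simpa using hp
    | mul x x' _ _ hx hx' =>
      intro p hp
      constructor
      · have := (hx' _ (hx p hp).1).1
        have e : x'⁻¹ * (x⁻¹ * p * x) * x' = (x * x')⁻¹ * p * (x * x') := by group
        rwa [e] at this
      · have := (hx _ (hx' p hp).2).2
        have e : x * (x' * p * x'⁻¹) * x⁻¹ = x * x' * p * (x * x')⁻¹ := by group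
        rwa [e] at this
    | inv x _ hx =>
      intro p hp
      rw [inv_inv]
      exact ⟨(hx p hp).2, (hx p hp).1⟩
  exact fun s hs p hp => (key s hs p hp).1

/-- **(L3)** the order of `O` -/
theorem card_OO (h : TB y e t w k n) : Nat.card (OO y e t w) = 3 ^ 9 * 2 ^ 7 := by
  have hn := NB.of_TB h
  have hw := WB.of_TB h
  have : Finite (PP y e) := Nat.finite_of_card_ne_zero (by rw [hn.card]; norm_num)
  have : Finite (Subgroup.closure ({t} ∪ Set.range w)) := Nat.finite_of_card_ne_zero (by rw [hw.card]; norm_num)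
  have hO : OO y e t w = PP y e ⊔ Subgroup.closure ({t} ∪ Set.range w) := by
    rw [OO, PP, ← Subgroup.closure_union, Set.union_assoc]
  rw [hO, card_sup (W_norm h) (by rw [hn.card, hw.card]; norm_num), hn.card, hw.card]

theorem stO : StO := fun h => card_OO h

end StO

end Cfsg.Agent.H649.U33
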